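import Groth.Agent.FlatMor62.LocalStruct

/-!
# Geometrically integral fibres after elementary etale localisation

For a smooth algebra and a point with purely transcendental residue extension there is an elementary etale
neighbourhood of the base over which an affine open of the base change has geometrically integral fibres.
-/

set_option autoImplicit false
set_option linter.style.haveILetI false

universe u

open AlgebraicGeometry CategoryTheory Limits TensorProduct

namespace Groth.Agent.GeomIrredNhd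

open FlatMor62.LocalStruct FlatMor62

set_option maxHeartbeats 2000000 in
theorem exists_nhd (R D₂ : Type u) [CommRing R] [CommRing D₂] [Algebra R D₂] (n : ℕ)
    (hsm : FlatCA.SmoothRelDim n R D₂) (p : Ideal R) [p.IsPrime] (P₂ : Ideal D₂) [P₂.IsPrime] [P₂.LiesOver p]
    (hPT₂ : FlatCA.PurelyTranscendental p P₂) :
    ∃ (R' : Type u) (_ : CommRing R') (_ : Algebra R R') (p' : Ideal R') (_ : p'.IsPrime) (D : Type u) (_ : CommRing D)
      (_ : Algebra R' D) (_ : Algebra D₂ D) (c : (R' ⊗[R] D₂) →+* D) (y : Ideal D) (_ : y.IsPrime)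
      (_ : y.LiesOver P₂) (_ : y.LiesOver p'),
      FlatCA.IsEtaleNhd R R' p p' ∧ FlatCA.IsEtaleNhd D₂ D P₂ y ∧
      c.comp (algebraMap R' (R' ⊗[R] D₂)) = algebraMap R' D ∧
      c.comp (Algebra.TensorProduct.includeRight : D₂ →ₐ[R] R' ⊗[R] D₂).toRingHom = algebraMap D₂ D ∧
      IsOpenImmersion (Spec.map (CommRingCat.ofHom c)) ∧
      FlatCA.SmoothRelDim n R' D ∧ FlatCA.GeomIntegralFibres R' D := by
  let h₂ : Spec (CommRingCat.of D₂) ⟶ Spec (CommRingCat.of R) :=
    Spec.map (CommRingCat.ofHom (algebraMap R D₂))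
  haveI hsn : SmoothOfRelativeDimension n h₂ := hsm
  haveI : Smooth h₂ := SmoothOfRelativeDimension.smooth n h₂
  haveI := geometricallyReduced_of_smooth h₂
  let s : Spec (CommRingCat.of R) := ⟨p, inferInstance⟩
  let u₂ : Spec (CommRingCat.of D₂) := ⟨P₂, inferInstance⟩
  have hu₂ : h₂ u₂ = s := PrimeSpectrum.ext (P₂.over_def p).symm
  -- the geometrically connected component
  let γ : p.ResidueField →ₐ[R] P₂.ResidueField :=
    Ideal.ResidueField.mapₐ p P₂ (Algebra.ofId R D₂) (P₂.over_def p)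
  let ιp : Spec (CommRingCat.of p.ResidueField) ⟶ Spec ((Spec (CommRingCat.of R)).residueField s) :=
    Spec.map (Scheme.Spec.residueFieldIso (CommRingCat.of R) s).hom
  haveI : MorphismProperty.RespectsIso @GeometricallyConnected :=
    MorphismProperty.IsStableUnderBaseChange.respectsIso
  haveI hgc : GeometricallyConnected (Spec.map (CommRingCat.ofHom γ.toRingHom) ≫ ιp) := by
    rw [MorphismProperty.cancel_right_of_respectsIso @GeometricallyConnected]
    unfold FlatCA.PurelyTranscendental at hPT₂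
    letI : Algebra p.ResidueField P₂.ResidueField := γ.toRingHom.toAlgebra
    obtain ⟨ι, x, hx, htop⟩ := hPT₂
    exact FieldFib.geometricallyConnected_of_adjoin_eq_top x hx.1 htop
  let σ : Spec (CommRingCat.of P₂.ResidueField) ⟶ h₂.fiber s :=
    pullback.lift (Spec.map (CommRingCat.ofHom (algebraMap D₂ P₂.ResidueField)))
      (Spec.map (CommRingCat.ofHom γ.toRingHom) ≫ ιp) (by
        rw [Category.assoc, ← Scheme.Spec.map_residueFieldIso_inv_eq_fromSpecResidueField]
        simp only [ιp, h₂, ← Spec.map_comp]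
        congr 1
        simp only [Category.assoc, Iso.inv_hom_id_assoc]
        ext x
        exact ((IsScalarTower.algebraMap_apply R D₂ P₂.ResidueField x).symm.trans (γ.commutes x).symm))
  have hσ : σ ≫ h₂.fiberToSpecResidueField s = Spec.map (CommRingCat.ofHom γ.toRingHom) ≫ ιp :=
    pullback.lift_snd _ _ _
  haveI hgσ : GeometricallyConnected (σ ≫ h₂.fiberToSpecResidueField s) := by rw [hσ]; exact hgc
  let pt : Spec (CommRingCat.of P₂.ResidueField) := IsLocalRing.closedPoint P₂.ResidueField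
  have hσpt : h₂.fiberι s (σ pt) = u₂ := by
    rw [← Scheme.Hom.comp_apply, show σ ≫ h₂.fiberι s = _ from pullback.lift_fst _ _ _]
    refine PrimeSpectrum.ext ?_
    show (pt.asIdeal.comap (algebraMap D₂ P₂.ResidueField)) = P₂
    rw [show pt.asIdeal = ⊥ from (IsSimpleOrder.eq_bot_or_eq_top pt.asIdeal).resolve_right pt.isPrime.ne_top,
      ← RingHom.ker_eq_comap_bot, Ideal.ker_algebraMap_residueField]
  haveI : IsNoetherian (h₂.fiber s) := by
    haveI : IsLocallyNoetherian (h₂.fiber s) :=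
      LocallyOfFiniteType.isLocallyNoetherian (h₂.fiberToSpecResidueField s)
    exact {}
  have hTo : IsOpen (connectedComponent (σ pt)) := Groth.Agent.SchPoints.isOpen_connectedComponent_of_noetherian _
  obtain ⟨S', e', s', hS'aff, ⟨he't, he's, he'b⟩, V, -, hVc, hVT⟩ := Groth.Agent.S1356.result h₂ s _
    (@geometricallyConnected_component _ _ _ _ (h₂.fiberToSpecResidueField s) σ hgσ pt hTo)
  haveI := hS'aff
  haveI := he't
  obtain ⟨y₁, ⟨hy₁u, hy₁s, hy₁b⟩, -⟩ :=
    Groth.Agent.Wt.EtNbhd.existsUnique_lift h₂ e' u₂ s' (hu₂.trans he's.symm) he'b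
  have hy₁V : y₁ ∈ V := (hVT y₁ hy₁s).mpr
    ⟨σ pt, show σ pt ∈ connectedComponent (σ pt) from mem_connectedComponent, hσpt.trans hy₁u.symm⟩
  let P₃ := pullback h₂ e'
  haveI : IsAffine P₃ := inferInstance
  obtain ⟨_, ⟨O₁, hO₁, rfl⟩, hyO₁, hO₁V⟩ :=
    P₃.isBasis_affineOpens.exists_subset_of_mem_open hy₁V V.2
  replace hO₁ : IsAffineOpen O₁ := hO₁
  let sn : P₃ ⟶ S' := pullback.snd h₂ e'
  haveI : Smooth sn := inferInstance
  haveI : UniversallyOpen sn := UniversallyOpen.of_flat sn
  obtain ⟨_, ⟨S₀, hS₀, rfl⟩, hsS₀, hS₀r⟩ := S'.isBasis_affineOpens.exists_subset_of_mem_open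
    (show s' ∈ sn '' (O₁ : Set P₃) from ⟨y₁, hyO₁, hy₁s⟩) (sn.isOpenMap _ O₁.2)
  replace hS₀ : IsAffineOpen S₀ := hS₀
  let O : P₃.Opens := O₁ ⊓ sn ⁻¹ᵁ S₀
  have hO : IsAffineOpen O := hO₁.inf (hS₀.preimage sn)
  have hOS : O ≤ sn ⁻¹ᵁ S₀ := inf_le_right
  have hyO : y₁ ∈ O := ⟨hyO₁, show sn y₁ ∈ S₀ by rw [show sn y₁ = s' from hy₁s]; exact hsS₀⟩
  let R' := Γ(S', S₀)
  let D := Γ(P₃, O)
  let ηR : CommRingCat.of R ⟶ R' := Spec.preimage (hS₀.fromSpec ≫ e')
  let ηD : CommRingCat.of D₂ ⟶ D := Spec.preimage (hO.fromSpec ≫ pullback.fst h₂ e')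
  have hηR : Spec.map ηR = hS₀.fromSpec ≫ e' := Spec.map_preimage _
  have hηD : Spec.map ηD = hO.fromSpec ≫ pullback.fst h₂ e' := Spec.map_preimage _
  letI : Algebra R R' := ηR.hom.toAlgebra
  letI : Algebra R' D := (sn.appLE S₀ O hOS).hom.toAlgebra
  letI : Algebra D₂ D := ηD.hom.toAlgebra
  have hsq : Spec.map (sn.appLE S₀ O hOS) ≫ hS₀.fromSpec = hO.fromSpec ≫ sn :=
    IsAffineOpen.SpecMap_appLE_fromSpec sn hS₀ hO hOS
  have hcommR : (algebraMap R' D).comp (algebraMap R R') = (algebraMap D₂ D).comp (algebraMap R D₂) := by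
    have : ηR ≫ sn.appLE S₀ O hOS = CommRingCat.ofHom (algebraMap R D₂) ≫ ηD := Spec.map_injective (by
      rw [Spec.map_comp, Spec.map_comp, hηR, hηD, ← Category.assoc, hsq, Category.assoc, Category.assoc,
        ← pullback.condition])
    exact congrArg CommRingCat.Hom.hom this
  let sR : Spec R' := hS₀.primeIdealOf ⟨s', hsS₀⟩
  let yD : Spec D := hO.primeIdealOf ⟨y₁, hyO⟩
  have hsR : hS₀.fromSpec sR = s' := hS₀.fromSpec_primeIdealOf ⟨s', hsS₀⟩
  have hyD : hO.fromSpec yD = y₁ := hO.fromSpec_primeIdealOf ⟨y₁, hyO⟩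
  have hyDu : Spec.map ηD yD = u₂ := by rw [hηD, Scheme.Hom.comp_apply, hyD]; exact hy₁u
  have hsRs : Spec.map ηR sR = s := by rw [hηR, Scheme.Hom.comp_apply, hsR]; exact he's
  have hyDsR : Spec.map (sn.appLE S₀ O hOS) yD = sR := hS₀.fromSpec.isOpenEmbedding.injective (by
    rw [← Scheme.Hom.comp_apply, hsq, Scheme.Hom.comp_apply, hyD, hsR]; exact hy₁s)
  haveI : sR.asIdeal.LiesOver p := ⟨(congrArg PrimeSpectrum.asIdeal hsRs).symm⟩
  haveI : yD.asIdeal.LiesOver P₂ := ⟨(congrArg PrimeSpectrum.asIdeal hyDu).symm⟩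
  haveI hyo : yD.asIdeal.LiesOver sR.asIdeal := ⟨(congrArg PrimeSpectrum.asIdeal hyDsR).symm⟩
  haveI hprime : ∀ {B : CommRingCat.{u}} (x : Spec B), x.asIdeal.IsPrime := fun x => x.isPrime
  have hcast : ∀ {A B : CommRingCat.{u}} (η : A ⟶ B) (x : Spec B) (a : Ideal A) [a.IsPrime]
      (h : a = x.asIdeal.comap η.hom), Function.Bijective ((Spec.map η).residueFieldMap x) →
      Function.Bijective (Ideal.ResidueField.map a x.asIdeal η.hom h) := by
    intro A B η x a _ h hb
    exact (bijective_residueFieldMap_iff η x a h).mp hb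
  have hbR : Function.Bijective (Ideal.ResidueField.mapₐ p sR.asIdeal (Algebra.ofId R R')
      (sR.asIdeal.over_def p)) := by
    refine hcast ηR sR p (sR.asIdeal.over_def p) ?_
    rw [hηR]
    refine Groth.Agent.Wt.EtNbhd.residueFieldMap_bijective_comp _ _ _
      (ConcreteCategory.bijective_of_isIso _) ?_
    rw [hsR]; exact he'b
  have hbD : Function.Bijective (Ideal.ResidueField.mapₐ P₂ yD.asIdeal (Algebra.ofId D₂ D)
      (yD.asIdeal.over_def P₂)) := by
    refine hcast ηD yD P₂ (yD.asIdeal.over_def P₂) ?_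
    rw [hηD]
    refine Groth.Agent.Wt.EtNbhd.residueFieldMap_bijective_comp _ _ _
      (ConcreteCategory.bijective_of_isIso _) ?_
    rw [hyD]; exact hy₁b
  haveI hetR : Algebra.Etale R R' := by
    have : Etale (Spec.map ηR) := by rw [hηR]; infer_instance
    exact RingHom.etale_algebraMap.mp (HasRingHomProperty.Spec_iff.mp this)
  haveI hetD : Algebra.Etale D₂ D := by
    have : Etale (Spec.map ηD) := by rw [hηD]; infer_instance
    exact RingHom.etale_algebraMap.mp (HasRingHomProperty.Spec_iff.mp this)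
  let cP : (R' : Type u) ⊗[R] D₂ →+* (D : Type u) := by
    letI : Algebra R D := ((algebraMap R' D).comp (algebraMap R R')).toAlgebra
    haveI : IsScalarTower R R' D := IsScalarTower.of_algebraMap_eq fun _ => rfl
    exact (Algebra.TensorProduct.lift (R := R) (S := R) (IsScalarTower.toAlgHom R R' D)
      ({ algebraMap D₂ D with commutes' := fun x => (RingHom.congr_fun hcommR x).symm } : D₂ →ₐ[R] D)
      (fun _ _ => Commute.all _ _)).toRingHom
  have hc1 : cP.comp (algebraMap R' (R' ⊗[R] D₂)) = algebraMap R' D := RingHom.ext fun a => by simp [cP]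
  have hc2 : cP.comp (Algebra.TensorProduct.includeRight : D₂ →ₐ[R] R' ⊗[R] D₂).toRingHom = algebraMap D₂ D :=
    RingHom.ext fun a => by simp [cP]
  let iR : CommRingCat.of D₂ ⟶ CommRingCat.of (R' ⊗[R] D₂) :=
    CommRingCat.ofHom (Algebra.TensorProduct.includeRight : D₂ →ₐ[R] R' ⊗[R] D₂).toRingHom
  let iL : R' ⟶ CommRingCat.of (R' ⊗[R] D₂) := CommRingCat.ofHom (algebraMap R' (R' ⊗[R] D₂))
  have hpo : IsPullback (Spec.map iR) (Spec.map iL) h₂ (Spec.map ηR) :=
    isPullback_SpecMap_of_isPushout _ _ _ _ (CommRingCat.isPushout_tensorProduct R R' D₂).flip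
  have hpb : IsPullback (Spec.map iR) (Spec.map iL) h₂ (hS₀.fromSpec ≫ e') := hηR ▸ hpo
  let cS : Spec (CommRingCat.of (R' ⊗[R] D₂)) ⟶ P₃ :=
    pullback.lift (Spec.map iR) (Spec.map iL ≫ hS₀.fromSpec) (by rw [Category.assoc]; exact hpb.w)
  haveI : IsOpenImmersion cS := by
    have hl : IsPullback cS (Spec.map iL) sn hS₀.fromSpec :=
      IsPullback.of_right (h₁₂ := pullback.fst h₂ e') (v₁₃ := h₂) (h₂₂ := e')
        (by rw [pullback.lift_fst]; exact hpb) (pullback.lift_snd _ _ _) (IsPullback.of_hasPullback h₂ e')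
    exact MorphismProperty.of_isPullback hl.flip inferInstance
  haveI hopen : IsOpenImmersion (Spec.map (CommRingCat.ofHom cP)) := by
    have e1 : iR ≫ CommRingCat.ofHom cP = ηD := CommRingCat.hom_ext hc2
    have e2 : iL ≫ CommRingCat.ofHom cP = sn.appLE S₀ O hOS := CommRingCat.hom_ext hc1
    haveI : IsOpenImmersion (Spec.map (CommRingCat.ofHom cP) ≫ cS) := by
      have : Spec.map (CommRingCat.ofHom cP) ≫ cS = hO.fromSpec := by
        apply pullback.hom_ext
        · rw [Category.assoc, pullback.lift_fst, ← Spec.map_comp, e1, hηD]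
        · rw [Category.assoc, pullback.lift_snd, ← Category.assoc, ← Spec.map_comp, e2, hsq]
      rw [this]; infer_instance
    exact IsOpenImmersion.of_comp _ cS
  have hsmooth : FlatCA.SmoothRelDim n R' D := by
    show SmoothOfRelativeDimension n (Spec.map (sn.appLE S₀ O hOS))
    haveI : MorphismProperty.IsStableUnderBaseChange (@SmoothOfRelativeDimension.{u} n) :=
      smoothOfRelativeDimension_isStableUnderBaseChange n
    haveI : SmoothOfRelativeDimension n sn :=
      (smoothOfRelativeDimension_isStableUnderBaseChange n).of_isPullback (IsPullback.of_hasPullback h₂ e') hsn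
    have h' : SmoothOfRelativeDimension (0 + n) (hO.fromSpec ≫ sn) := inferInstance
    rw [Nat.zero_add] at h'
    exact MorphismProperty.of_isPullback
      (IsPullback.of_horiz_isIso_mono ⟨by rw [Category.id_comp, hsq]⟩ :
        IsPullback (𝟙 _) (Spec.map (sn.appLE S₀ O hOS)) (hO.fromSpec ≫ sn) hS₀.fromSpec) h'
  have hgi : FlatCA.GeomIntegralFibres R' D := by
    show GeometricallyIntegral (Spec.map (sn.appLE S₀ O hOS))
    haveI := hVc
    haveI : Smooth (V.ι ≫ sn) := inferInstance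
    haveI := geometricallyIntegral_of_connected (V.ι ≫ sn)
    have hrange : Set.range hO.fromSpec ⊆ Set.range V.ι := by
      rw [hO.range_fromSpec, Scheme.Opens.range_ι]; exact fun x hx => hO₁V hx.1
    haveI : Surjective (Spec.map (sn.appLE S₀ O hOS)) := ⟨fun r => by
      have hrS : hS₀.fromSpec r ∈ (S₀ : Set S') := by
        rw [← hS₀.range_fromSpec]; exact Set.mem_range_self r
      obtain ⟨o, ho, hor⟩ := hS₀r hrS
      obtain ⟨d, hd⟩ : o ∈ Set.range hO.fromSpec := by
        rw [hO.range_fromSpec]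
        exact ⟨ho, show sn o ∈ S₀ by rw [hor]; exact hrS⟩
      refine ⟨d, hS₀.fromSpec.isOpenEmbedding.injective ?_⟩
      rw [← Scheme.Hom.comp_apply, hsq, Scheme.Hom.comp_apply, hd, hor]⟩
    haveI : IsOpenImmersion (IsOpenImmersion.lift V.ι hO.fromSpec hrange) := inferInstance
    exact geometricallyIntegral_open (V.ι ≫ sn) (IsOpenImmersion.lift V.ι hO.fromSpec hrange) hS₀.fromSpec _
      (by rw [IsOpenImmersion.lift_fac_assoc, hsq])
  exact ⟨R', inferInstance, inferInstance, sR.asIdeal, inferInstance, D, inferInstance, inferInstance, inferInstance, cP, yD.asIdeal,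
    inferInstance, inferInstance, hyo, ⟨hetR, ⟨sR.asIdeal.over_def p⟩, hbR⟩, ⟨hetD, ⟨yD.asIdeal.over_def P₂⟩, hbD⟩,
    hc1, hc2, hopen, hsmooth, hgi⟩

end Groth.Agent.GeomIrredNhd
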